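import Cfsg.Agent.H891.DG.Defs

/-!
# S4180, TEAM GEN, C2: Gaschütz' lemma and `Cos2` from 2-generation (helper984)

* `gaschutz` : if the finite group `G` is 2-generated then every generating pair of `G ⧸ N` lifts to a generating pair;
* `cos2_of_sub` : `Cos2 L` if every group between `Inn L` and `Aut L` is 2-generated;
* `cos2_of_row` : the same from the abstract form (groups with a normal self-centralising copy of `L`);
* `cos2_congr` : transport.
-/

set_option autoImplicit false

namespace Cfsg.Agent.H984.DG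

open Cfsg.Agent.H440.TwoGen Cfsg.Agent.H891.Gen Cfsg.Agent.H891.DG Subgroup

universe u v w

section gasch

variable {G : Type u} [Group G] [Finite G] (N : Subgroup G) [N.Normal]

/-- the pairs of `N × N` correcting `(x, y)` to a pair generating `H` -/
def Pr (H : Subgroup G) (x y : G) : Set (↥N × ↥N) :=
  {p | closure ({x * (p.1 : G), y * (p.2 : G)} : Set G) = H}

omit [Finite G] [N.Normal] in
theorem sup_closure (x y : G) (s t : ↥N) :
    closure ({x * (s : G), y * (t : G)} : Set G) ⊔ N = closure ({x, y} : Set G) ⊔ N := by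
  apply le_antisymm
  · refine sup_le ?_ le_sup_right
    rw [closure_le]
    rintro z (rfl | hz)
    · exact mul_mem (mem_sup_left (subset_closure (by simp))) (mem_sup_right s.2)
    · rw [Set.mem_singleton_iff] at hz
      subst hz
      exact mul_mem (mem_sup_left (subset_closure (by simp))) (mem_sup_right t.2)
  · refine sup_le ?_ le_sup_right
    rw [closure_le]
    rintro z (rfl | hz)
    · have h1 : z = z * (s : G) * (s : G)⁻¹ := by rw [mul_inv_cancel_right]
      rw [h1]
      exact mul_mem (mem_sup_left (subset_closure (by simp))) (mem_sup_right (inv_mem s.2))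
    · rw [Set.mem_singleton_iff] at hz
      subst hz
      have h1 : z = z * (t : G) * (t : G)⁻¹ := by rw [mul_inv_cancel_right]
      rw [h1]
      exact mul_mem (mem_sup_left (subset_closure (by simp))) (mem_sup_right (inv_mem t.2))

omit [Finite G] in
/-- the number of corrections lying in a supplement `H` of `N` does not depend on the element -/
theorem card_corr (H : Subgroup G) (hH : H ⊔ N = ⊤) (x : G) :
    Nat.card {s : ↥N // x * (s : G) ∈ H} = Nat.card ↥(H ⊓ N) := by
  have hx : x⁻¹ ∈ N ⊔ H := by rw [sup_comm, hH]; exact mem_top _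
  rw [mem_sup_of_normal_left] at hx
  obtain ⟨n, hn, h, hh, hnh⟩ := hx
  -- x * n = h⁻¹ ∈ H
  have h1 : x * n = h⁻¹ := by
    have : x = h⁻¹ * n⁻¹ := by rw [← mul_inv_rev, hnh, inv_inv]
    rw [this, inv_mul_cancel_right]
  refine Nat.card_congr ⟨fun s => ⟨n⁻¹ * s.1.1, ?_, N.mul_mem (N.inv_mem hn) s.1.2⟩,
    fun s => ⟨⟨n * s.1, N.mul_mem hn s.2.2⟩, ?_⟩, fun s => ?_, fun s => ?_⟩
  · have h2 : n⁻¹ * s.1.1 = h * (x * s.1.1) := by
      have h3 : h * x = n⁻¹ := by
        rw [eq_inv_iff_mul_eq_one, mul_assoc, h1, mul_inv_cancel]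
      rw [← mul_assoc, h3]
    rw [h2]
    exact H.mul_mem hh s.2
  · show x * (n * s.1) ∈ H
    rw [← mul_assoc, h1]
    exact H.mul_mem (H.inv_mem hh) s.2.1
  · apply Subtype.ext
    apply Subtype.ext
    show n * (n⁻¹ * s.1.1) = s.1.1
    rw [mul_inv_cancel_left]
  · apply Subtype.ext
    show n⁻¹ * (n * s.1) = s.1
    rw [inv_mul_cancel_left]

theorem sum_card (H : Subgroup G) (hH : H ⊔ N = ⊤) (x y : G) [Fintype (Subgroup G)]
    [DecidablePred fun K : Subgroup G => K ≤ H] :
    ∑ K ∈ Finset.univ.filter (fun K : Subgroup G => K ≤ H), Nat.card ↥(Pr N K x y) =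
      Nat.card ↥(H ⊓ N) * Nat.card ↥(H ⊓ N) := by
  classical
  have := Fintype.ofFinite ↥N
  have h1 : Nat.card ↥(H ⊓ N) * Nat.card ↥(H ⊓ N) =
      (Finset.univ.filter (fun p : ↥N × ↥N => x * (p.1 : G) ∈ H ∧ y * (p.2 : G) ∈ H)).card := by
    have hx := card_corr N H hH x
    have hy := card_corr N H hH y
    have h2 : Nat.card ↥(H ⊓ N) * Nat.card ↥(H ⊓ N) =
        Nat.card {s : ↥N // x * (s : G) ∈ H} * Nat.card {s : ↥N // y * (s : G) ∈ H} := by rw [hx, hy]
    rw [h2, ← Nat.card_prod, ← Fintype.card_subtype, ← Nat.card_eq_fintype_card]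
    exact Nat.card_congr ⟨fun p => ⟨(p.1.1, p.2.1), p.1.2, p.2.2⟩, fun p => (⟨p.1.1, p.2.1⟩, ⟨p.1.2, p.2.2⟩),
      fun p => rfl, fun p => rfl⟩
  rw [h1, Finset.card_eq_sum_card_fiberwise (f := fun p : ↥N × ↥N => closure ({x * (p.1 : G), y * (p.2 : G)} : Set G))
    (t := Finset.univ.filter (fun K : Subgroup G => K ≤ H))]
  · refine Finset.sum_congr rfl fun K hK => ?_
    rw [Finset.mem_filter] at hK
    rw [Nat.card_eq_fintype_card, ← Set.toFinset_card]
    congr 1
    ext p
    simp only [Set.mem_toFinset, Finset.mem_filter, Finset.mem_univ, true_and]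
    constructor
    · intro hp
      have hp' : closure ({x * (p.1 : G), y * (p.2 : G)} : Set G) = K := hp
      refine ⟨⟨hK.2 ?_, hK.2 ?_⟩, hp'⟩
      · rw [← hp']; exact subset_closure (by simp)
      · rw [← hp']; exact subset_closure (by simp)
    · exact fun hp => hp.2
  · intro p hp
    simp only [Finset.coe_filter, Finset.mem_univ, true_and, Set.mem_ofPred_eq] at hp ⊢
    rw [closure_le]
    rintro z (rfl | hz)
    · exact hp.1
    · rw [Set.mem_singleton_iff] at hz
      subst hz
      exact hp.2

/-- the number of corrections to a generating pair of `H` does not depend on the generating pair modulo `N` -/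
theorem card_pr_eq {x y x' y' : G} (h : closure ({x, y} : Set G) ⊔ N = ⊤)
    (h' : closure ({x', y'} : Set G) ⊔ N = ⊤) : ∀ (k : ℕ) (H : Subgroup G), Nat.card ↥H = k →
      Nat.card ↥(Pr N H x y) = Nat.card ↥(Pr N H x' y') := by
  classical
  have := Fintype.ofFinite (Subgroup G)
  intro k
  induction k using Nat.strong_induction_on with
  | _ k ih =>
    intro H hk
    by_cases hH : H ⊔ N = ⊤
    · have h1 := sum_card N H hH x y
      have h2 := sum_card N H hH x' y'
      have hmem : H ∈ Finset.univ.filter (fun K : Subgroup G => K ≤ H) := by simp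
      rw [← Finset.add_sum_erase _ _ hmem] at h1 h2
      have h3 : ∑ K ∈ (Finset.univ.filter (fun K : Subgroup G => K ≤ H)).erase H, Nat.card ↥(Pr N K x y) =
          ∑ K ∈ (Finset.univ.filter (fun K : Subgroup G => K ≤ H)).erase H, Nat.card ↥(Pr N K x' y') := by
        refine Finset.sum_congr rfl fun K hK => ?_
        rw [Finset.mem_erase, Finset.mem_filter] at hK
        refine ih (Nat.card ↥K) ?_ K rfl
        rw [← hk]
        exact Set.Finite.card_lt_card (Set.toFinite _) (SetLike.coe_ssubset_coe.2 (lt_of_le_of_ne hK.2.2 hK.1))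
      omega
    · have key : ∀ a b : G, closure ({a, b} : Set G) ⊔ N = ⊤ → Pr N H a b = ∅ := by
        intro a b hab
        rw [Set.eq_empty_iff_forall_notMem]
        intro p hp
        apply hH
        have hp' : closure ({a * (p.1 : G), b * (p.2 : G)} : Set G) = H := hp
        rw [← hp', sup_closure, hab]
      rw [key x y h, key x' y' h']

/-- **Gaschütz' lemma** for pairs. -/
theorem gaschutz (hG : TwoGen G) {x y : G} (h : closure ({x, y} : Set G) ⊔ N = ⊤) :
    ∃ s ∈ N, ∃ t ∈ N, closure ({x * s, y * t} : Set G) = ⊤ := by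
  obtain ⟨a, b, hab⟩ := hG
  have h1 := card_pr_eq N (x := a) (y := b) (x' := x) (y' := y) (by rw [hab, top_sup_eq]) h _ ⊤ rfl
  have h2 : (1 : ↥N × ↥N) ∈ Pr N ⊤ a b := by
    show closure ({a * 1, b * 1} : Set G) = ⊤
    rw [mul_one, mul_one, hab]
  have h3 : 0 < Nat.card ↥(Pr N ⊤ a b) := Nat.card_pos_iff.2 ⟨⟨⟨_, h2⟩⟩, inferInstance⟩
  rw [h1] at h3
  obtain ⟨⟨⟨p, hp⟩⟩, -⟩ := Nat.card_pos_iff.1 h3
  exact ⟨p.1, p.1.2, p.2, p.2.2, hp⟩

end gasch

section cos

/-- every pair of a finite group lifts if all overgroups of `N` are 2-generated -/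
theorem lift_of_sub {G : Type u} [Group G] [Finite G] (N : Subgroup G) [N.Normal]
    (h : ∀ S : Subgroup G, N ≤ S → TwoGen ↥S) (x y : G) : Lift N x y := by
  set S : Subgroup G := closure ({x, y} : Set G) ⊔ N with hS
  have hNS : N ≤ S := le_sup_right
  have hx : x ∈ S := mem_sup_left (subset_closure (by simp))
  have hy : y ∈ S := mem_sup_left (subset_closure (by simp))
  obtain ⟨s, hs, t, ht, hst⟩ := gaschutz (N.subgroupOf S) (h S hNS) (x := ⟨x, hx⟩) (y := ⟨y, hy⟩) (by
    apply Subgroup.map_injective S.subtype_injective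
    rw [Subgroup.map_sup, MonoidHom.map_closure, Set.image_pair, Subgroup.subgroupOf_map_subtype,
      inf_eq_left.2 hNS, ← MonoidHom.range_eq_map, Subgroup.range_subtype]
    rfl)
  refine ⟨s, mem_subgroupOf.1 hs, t, mem_subgroupOf.1 ht, ?_⟩
  have h1 := congrArg (Subgroup.map S.subtype) hst
  rw [MonoidHom.map_closure, Set.image_pair, ← MonoidHom.range_eq_map, Subgroup.range_subtype] at h1
  have h2 : closure ({x * (s : G), y * (t : G)} : Set G) = S := h1
  rw [h2]
  exact hNS

instance conj_range_normal {L : Type u} [Group L] : ((MulAut.conj : L →* MulAut L).range).Normal := by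
  refine ⟨?_⟩
  rintro _ ⟨x, rfl⟩ α
  refine ⟨α x, ?_⟩
  ext y
  simp [MulAut.conj_apply, MulAut.mul_apply]

/-- `Cos2 L` if every group between `Inn L` and `Aut L` is 2-generated. -/
theorem cos2_of_sub {L : Type u} [Group L] [Finite L]
    (h : ∀ S : Subgroup (MulAut L), (MulAut.conj : L →* MulAut L).range ≤ S → TwoGen ↥S) : Cos2 L := by
  have : Finite (MulAut L) := Finite.of_injective (fun f : MulAut L => (f : L → L)) DFunLike.coe_injective
  exact fun x y => lift_of_sub _ h x y

/-- transport -/
theorem cos2_congr {L : Type u} [Group L] {M : Type v} [Group M] (e : L ≃* M) (h : Cos2 M) : Cos2 L := by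
  intro x y
  have hinn : ∀ g : MulAut L, g ∈ (MulAut.conj : L →* MulAut L).range ↔
      MulAut.congr e g ∈ (MulAut.conj : M →* MulAut M).range := by
    intro g
    constructor
    · rintro ⟨a, rfl⟩
      refine ⟨e a, ?_⟩
      ext z
      simp [MulAut.congr]
    · rintro ⟨a, ha⟩
      refine ⟨e.symm a, ?_⟩
      ext z
      apply e.injective
      have h1 := DFunLike.congr_fun ha (e z)
      simp only [MulAut.conj_apply] at h1
      rw [MulAut.conj_apply, map_mul, map_mul, map_inv, e.apply_symm_apply, h1]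
      show e (g (e.symm (e z))) = e (g z)
      rw [e.symm_apply_apply]
  obtain ⟨s, hs, t, ht, hst⟩ := h (MulAut.congr e x) (MulAut.congr e y)
  refine ⟨(MulAut.congr e).symm s, ?_, (MulAut.congr e).symm t, ?_, ?_⟩
  · rw [hinn, (MulAut.congr e).apply_symm_apply]; exact hs
  · rw [hinn, (MulAut.congr e).apply_symm_apply]; exact ht
  · intro z hz
    have h1 := hst ((hinn z).1 hz)
    have h2 : closure ({MulAut.congr e x * s, MulAut.congr e y * t} : Set (MulAut M)) =
        (closure ({x * (MulAut.congr e).symm s, y * (MulAut.congr e).symm t} : Set (MulAut L))).map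
          (MulAut.congr e).toMonoidHom := by
      rw [MonoidHom.map_closure, Set.image_pair]
      have e1 : ∀ g : MulAut M, (MulAut.congr e).toMonoidHom ((MulAut.congr e).symm g) = g :=
        fun g => (MulAut.congr e).apply_symm_apply g
      rw [map_mul, map_mul, e1, e1]
      rfl
    rw [h2] at h1
    obtain ⟨z', hz', h3⟩ := h1
    have h4 : z' = z := (MulAut.congr e).injective h3
    exact h4 ▸ hz'

/-- `Cos2 L` if all groups with a normal self-centralising subgroup isomorphic to `L` are 2-generated -/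
theorem cos2_of_row {L : Type u} [Group L] [Finite L] [IsSimpleGroup L]
    (h : ∀ (G : Type u) [Group G] (N : Subgroup G), N.Normal → centralizer (N : Set G) = ⊥ →
      Nonempty (↥N ≃* L) → TwoGen G) : Cos2 L := by
  rcases (inferInstance : (center L).Normal).eq_bot_or_eq_top with hZ | hZ
  · refine cos2_of_sub fun S hS => ?_
    have hinj : Function.Injective (MulAut.conj : L →* MulAut L) := by
      rw [injective_iff_map_eq_one]
      intro a ha
      have h1 : a ∈ center L := by
        rw [mem_center_iff]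
        intro b
        have h2 := DFunLike.congr_fun ha b
        rw [MulAut.conj_apply, MulAut.one_apply] at h2
        exact (mul_inv_eq_iff_eq_mul.1 h2).symm
      rwa [hZ, mem_bot] at h1
    refine h ↥S ((MulAut.conj : L →* MulAut L).range.subgroupOf S) inferInstance ?_ ?_
    · rw [eq_bot_iff]
      intro g hg
      rw [mem_bot]
      rw [mem_centralizer_iff] at hg
      apply Subtype.ext
      ext a
      have h1 := hg ⟨MulAut.conj a, hS ⟨a, rfl⟩⟩ (mem_subgroupOf.2 ⟨a, rfl⟩)
      have h2 : MulAut.conj a * (g : MulAut L) = (g : MulAut L) * MulAut.conj a := congrArg Subtype.val h1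
      have h3 : MulAut.conj ((g : MulAut L) a) = MulAut.conj a := by
        have h4 : MulAut.conj ((g : MulAut L) a) = (g : MulAut L) * MulAut.conj a * (g : MulAut L)⁻¹ := by
          ext b
          simp [MulAut.conj_apply, MulAut.mul_apply]
        rw [h4, ← h2, mul_inv_cancel_right]
      exact hinj h3
    · exact ⟨(subgroupOfEquivOfLe hS).trans (MonoidHom.ofInjective hinj).symm⟩
  · intro x y
    refine ⟨1, one_mem _, 1, one_mem _, ?_⟩
    rintro _ ⟨a, rfl⟩
    have h1 : MulAut.conj a = 1 := by
      ext b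
      have h2 : a ∈ center L := by rw [hZ]; exact mem_top _
      rw [MulAut.conj_apply, MulAut.one_apply, (mem_center_iff.1 h2 b).symm, mul_inv_cancel_right]
    rw [h1]
    exact one_mem _

end cos

end Cfsg.Agent.H984.DG
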